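import Cfsg.Agent.Inst.NgM12
import Cfsg.Agent.Inst.NgNat
import Cfsg.Agent.Inst.NgT2
import Cfsg.Agent.Inst.NgT3
import Cfsg.Agent.Inst.NgTits
import Cfsg.Agent.Cond.NgAmalgam

set_option autoImplicit false

instance Cfsg.Agent.Inst.NgAmalgam.{u} : Cfsg.Agent.Gate.NgAmalgam.{u} := Cfsg.Agent.Cond.NgAmalgam
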