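import Cfsg.Agent.Inst.BenderCore
import Cfsg.Agent.Inst.NgAmalgam
import Cfsg.Agent.Inst.NgChar2
import Cfsg.Agent.Inst.NgSD
import Cfsg.Agent.Inst.NgWr
import Cfsg.Agent.Inst.S0205
import Cfsg.Agent.Inst.S0483
import Cfsg.Agent.Inst.S0486
import Cfsg.Agent.Inst.S0516
import Cfsg.Agent.Inst.S1136
import Cfsg.Agent.Inst.S2916
import Cfsg.Agent.Cond.NgMain

set_option autoImplicit false

instance Cfsg.Agent.Inst.NgMain.{u} : Cfsg.Agent.Gate.NgMain.{u} := Cfsg.Agent.Cond.NgMain
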