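import Cfsg.Agent.Gate.BmoL
import Cfsg.Agent.Bmo.Main

set_option autoImplicit false

instance Cfsg.Agent.Inst.BmoL.{u, v} : Cfsg.Agent.Gate.BmoL.{u, v} := ⟨Cfsg.Lib.Bmo.pslPsl⟩
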