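import Cfsg.Agent.Gate.BmoU
import Cfsg.Agent.Bmo.Main

set_option autoImplicit false

instance Cfsg.Agent.Inst.BmoU.{u, v} : Cfsg.Agent.Gate.BmoU.{u, v} := ⟨Cfsg.Lib.Bmo.psuPsl⟩
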