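import Cfsg.Agent.Gate.KIL2
import Cfsg.Agent.KInv.CoD

set_option autoImplicit false

instance Cfsg.Agent.Inst.KIL2.{u} : Cfsg.Agent.Gate.KIL2.{u} := ⟨fun G _ _ h => (Cfsg.Lib.KInv.Co.spor2 G h).2⟩
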