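import Cfsg.Agent.Gate.KIL4
import Cfsg.Agent.KInv.FisB

set_option autoImplicit false

instance Cfsg.Agent.Inst.KIL4.{u} : Cfsg.Agent.Gate.KIL4.{u} := ⟨fun _ _ _ h => (Cfsg.Lib.KInv.nice_fischer h).1⟩
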