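import Cfsg.Agent.PG.CMain
import Cfsg.Agent.Gate.PGC

set_option autoImplicit false

instance Cfsg.Agent.Inst.PGC.{u} : Cfsg.Agent.Gate.PGC.{u} := ⟨fun h => h.false⟩
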