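import Cfsg.Agent.PG.Main
import Cfsg.Agent.Gate.PGD

set_option autoImplicit false

instance Cfsg.Agent.Inst.PGD.{u} : Cfsg.Agent.Gate.PGD.{u} :=
  ⟨fun hG h => Cfsg.Lib.PG.isol_or_special hG h⟩
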