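import Cfsg.Agent.Gate.S1703
import Cfsg.Agent.S1703

set_option autoImplicit false

instance Cfsg.Agent.Inst.S1703 : Cfsg.Agent.Gate.S1703 := ⟨@Cfsg.Agent.S1703.result⟩
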