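import Cfsg.Agent.Gate.S4265
import Cfsg.Agent.S4265

set_option autoImplicit false

instance Cfsg.Agent.Inst.S4265 : Cfsg.Agent.Gate.S4265 := ⟨@Cfsg.Agent.S4265.result⟩
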